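import Groth.Agent.KVbLib.Model
import Groth.Agent.KVbLib.ClopenMod
import Groth.Agent.PicInfLib.Bridge
import Groth.Agent.FundLocIsoLib.DetSes
import Groth.Agent.SeesawVB.TrivFibres
import Groth.Agent.DetLib.Ses
import Groth.Agent.NumBddLib.Cut
import Groth.Agent.VBLib.SmoothDual
import Groth.Agent.VBLib.RankTwoGen
import Groth.Agent.EtClosedPts.Generic
import Groth.Agent.S1533

/-!
# The Grothendieck group of vector bundles of a curve is rank and determinant
-/

set_option autoImplicit false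
set_option backward.isDefEq.respectTransparency false
set_option linter.style.haveILetI false
set_option linter.unusedSectionVars false
set_option maxHeartbeats 1000000

universe u

open CategoryTheory CategoryTheory.Limits AlgebraicGeometry TopologicalSpace
open Groth.Agent.PullbackMod Groth.Agent.VBLib

noncomputable section

namespace Groth.Agent.KVbCurveLib

local notation "c" => KRR.cl _

theorem map_eq_zero {X : Scheme.{u}} {L : X.Modules} (hL : PicF.IsInvertible L) {M M' : X.Modules}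
    {g : M ⟶ M'} (h : ((DCoh.tensorBi (X := X)).obj L).map g = 0) : g = 0 := by
  refine (eq_zero_iff_stalk g).2 fun x => LinearMap.ext fun z => ?_
  obtain ⟨e, he⟩ := ParaFLib.exists_stalk_gen hL x
  have h1 := (DCohLib.stalkTensor_natural_right x g (M := L) (e ⊗ₜ z)).symm
  have h0 : stalkLin (((DCoh.tensorBi (X := X)).obj L).map g) x = 0 := (eq_zero_iff_stalk _).1 h x
  rw [h0, LinearMap.zero_apply] at h1
  have h2 : e ⊗ₜ[X.presheaf.stalk x] stalkLin g x z = 0 := by
    simpa using (DCohLib.stalkTensor x L M').map_eq_zero_iff.1 h1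
  let θ : X.presheaf.stalk x ≃ₗ[X.presheaf.stalk x] L.presheaf.stalk x :=
    LinearEquiv.ofBijective (LinearMap.toSpanSingleton _ _ e) he
  have h3 := congrArg ((TensorProduct.congr θ.symm (LinearEquiv.refl _ _)).trans (TensorProduct.lid _ _)) h2
  simp only [LinearEquiv.trans_apply, TensorProduct.congr_tmul, LinearEquiv.refl_apply, TensorProduct.lid_tmul,
    map_zero] at h3
  rw [show θ.symm e = 1 from θ.symm_apply_eq.2 (by rw [LinearEquiv.ofBijective_apply, LinearMap.toSpanSingleton_apply, one_smul]), one_smul] at h3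
  exact h3

theorem flf_of_inv {X : Scheme.{u}} {L : X.Modules} (hL : PicF.IsInvertible L) : FlatMod.IsFinLocFree L :=
  KVb.isFinLocFree_of_rank (CurveLib.isFinLocFreeOfRank_one hL)

section Det

variable {X : Scheme.{u}} [ConnectedSpace ↥X]

theorem frames {E : X.Modules} {n : ℕ} (hE : FlatMod.IsFinLocFreeOfRank n E) (x : X) :
    ∃ (U : X.Opens) (s : Fin n → Γ(E, U)), x ∈ U ∧ DegDevLib.IsFrame U s := by
  obtain ⟨_, ⟨V, hV, rfl⟩, hxV, -⟩ := X.isBasis_affineOpens.exists_subset_of_mem_open (Set.mem_univ x) isOpen_univ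
  obtain ⟨U, f, hU, -, hf⟩ := DegDevLib.exists_frame hE (Set.finite_singleton x) hV (Set.singleton_subset_iff.2 hxV)
  exact ⟨U, f, hU rfl, hf⟩

/-- The rank. -/
abbrev rk (E : X.Modules) : ℕ := fibreRank E KVb.base

/-- The top exterior power. -/
def top (E : X.Modules) : X.Modules := open Classical in
  if h : Coh.IsQCoh E then (haveI := h; (ExtPowLib.exists_isExtPow E (rk E)).choose) else E

theorem isExtPow_top {E : X.Modules} (hE : FlatMod.IsFinLocFree E) : ExtPow.IsExtPow (rk E) E (top E) := by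
  haveI h := (isQCoh_and_isFP_of_isFinLocFree E hE).1
  rw [top, dif_pos h]
  exact (ExtPowLib.exists_isExtPow E (rk E)).choose_spec.2

theorem isInvertible_top {E : X.Modules} (hE : FlatMod.IsFinLocFree E) : PicF.IsInvertible (top E) :=
  SeesawVB.isInvertible_of_isExtPow (isExtPow_top hE) (frames (KVb.rank_of_flf hE))

theorem exists_detHom [PicGrp.Law X] : ∃ g : SGA6.Kvb X →+ Additive (PicLoc.PicSet X),
    ∀ E (hE : FlatMod.IsFinLocFree E), g (c E) = Additive.ofMul (PicGrp.cls (top E) (isInvertible_top hE)) := by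
  classical
  obtain ⟨g, hg⟩ := RegLib.exists_lift (P := fun M : X.Modules => FlatMod.IsFinLocFree M)
    (fun E => if hE : FlatMod.IsFinLocFree E then Additive.ofMul (PicGrp.cls (top E) (isInvertible_top hE)) else 0)
    fun {S} hS h₁ h₂ h₃ => by
      rw [dif_pos h₁, dif_pos h₂, dif_pos h₃, ← ofMul_mul]
      refine congrArg Additive.ofMul ?_
      have hrk : rk S.X₁ + rk S.X₃ = rk S.X₂ := by
        haveI := (isQCoh_and_isFP_of_isFinLocFree _ h₂).1
        exact (fibreRank_eq_of_freeAt _ (KVb.freeAt_mid hS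
          (KVb.isFinLocFree_freeAt h₁ _) (KVb.isFinLocFree_freeAt h₃ _))).symm
      obtain ⟨e⟩ := FundLocIsoLib.nonempty_det_iso hS h₁ h₂ h₃ hrk (frames (KVb.rank_of_flf h₁))
        (frames (KVb.rank_of_flf h₃)) (isExtPow_top h₁) (isExtPow_top h₂) (isExtPow_top h₃)
      refine Subtype.ext ?_
      rw [PicGrp.cls_mul_cls_val, PicGrp.cls_val]
      exact (PicGrp.cl_eq_cl_iff _ _).2 ⟨e.symm⟩
  exact ⟨g, fun E hE => (hg E hE).trans (dif_pos hE)⟩

/-- The determinant. -/
def detHom [PicGrp.Law X] : SGA6.Kvb X →+ Additive (PicLoc.PicSet X) := exists_detHom.choose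

theorem detHom_invertible [PicGrp.Law X] {L : X.Modules} (hL : PicF.IsInvertible L) :
    detHom (c L) = Additive.ofMul (PicGrp.cls L hL) := by
  refine ((exists_detHom (X := X)).choose_spec L (flf_of_inv hL)).trans (congrArg Additive.ofMul ?_)
  rw [PicGrp.cls_eq_cls_iff]
  have h1 : rk L = 1 := KVb.fibreRank_base_of_rank (CurveLib.isFinLocFreeOfRank_one hL)
  exact DetLib.nonempty_iso_of_isExtPow (h1 ▸ isExtPow_top (flf_of_inv hL)) (KVb.isExtPow_one L)

theorem cls_structure_add [PicGrp.Law X] :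
    detHom (c (Coh.structureModule X)) = 0 := by
  rw [detHom_invertible ParaFLib.isInvertible_structureModule, PicGrp.cls_structureModule_eq_one]
  rfl

end Det

section Curve

variable (k : Type u) [Field k] [IsAlgClosed k] {X : Scheme.{u}} [X.Over (Spec (CommRingCat.of k))]
  [IsIntegral X] [IsProper (X ↘ Spec (CommRingCat.of k))] [Smooth (X ↘ Spec (CommRingCat.of k))]
  (hdim : topologicalKrullDim ↥X = 1)

local notation "O" => Coh.structureModule X

include k hdim in
/-- Closed complements of nonempty opens are finite. -/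
theorem finite_compl (U : X.Opens) (hU : (U : Set X).Nonempty) : ((U : Set X)ᶜ).Finite := by
  haveI : IsNoetherian X := EulerIneqLib.isNoetherian_proper (X := X) k
  have hc : IsClosed ((U : Set X)ᶜ) := U.2.isClosed_compl
  haveI : QuasiSober ↥((U : Set X)ᶜ) := hc.isClosedEmbedding_subtypeVal.quasiSober
  have h : ∀ a : ↥((U : Set X)ᶜ), IsClosed ({a} : Set ↥((U : Set X)ᶜ)) := fun a => by
    rcases EtClosedPts.isClosed_or_maximal hdim.le a.1 with h | h
    · have : ({a} : Set ↥((U : Set X)ᶜ)) = Subtype.val ⁻¹' {a.1} := by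
        ext b; simp [Subtype.ext_iff]
      rw [this]
      exact h.preimage continuous_subtype_val
    · obtain ⟨z, hz⟩ := hU
      exact absurd ((h _ (genericPoint_specializes a.1)) ▸ (genericPoint_specializes z).mem_open U.2 hz) a.2
  exact Set.finite_coe_iff.1 (Set.finite_univ_iff.1 (EtClosedPts.finite_of_closed_points h))

include k hdim in
/-- The basic relation for two globally generated invertible modules. -/
theorem cl_add_cl_of_gg {A B : X.Modules} (hA : PicF.IsInvertible A) (hB : PicF.IsInvertible B)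
    (gA : Curv2.IsGloballyGenerated A) (gB : Curv2.IsGloballyGenerated B) :
    (c A + c B : SGA6.Kvb X) = c O + c (CohB1.tensorMod A B) := by
  haveI : IsNoetherian X := EulerIneqLib.isNoetherian_proper (X := X) k
  haveI := isRegCurve_of_smooth k (X := X) hdim.le
  letI := PicInf.law X
  obtain ⟨s, hs⟩ := AmpleLib.exists_genLocus_of_isGloballyGenerated hA gA (genericPoint X)
  obtain ⟨t, ht⟩ := NumBdd.exists_section_avoid k hB gB (finite_compl k hdim (CohB1.genLocus A s) ⟨_, hs⟩)
  let u : A ⟶ CohB1.tensorMod A B := (AmpleLib.unitR A).inv ≫ CurveLib.mulS A t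
  let v : B ⟶ CohB1.tensorMod A B := ((AmpleLib.unitR B).inv ≫ CurveLib.mulS B s) ≫ (AmpleLib.comm B A).hom
  let g : A ⊞ B ⟶ CohB1.tensorMod A B := biprod.desc u v
  haveI : Epi g := (epi_iff_stalk g).2 fun x z => by
    by_cases hx : x ∈ CohB1.genLocus A s
    · obtain ⟨w, hw⟩ := ((HilbLib.stalkLin_bijective_of_iso (AmpleLib.comm B A) x).comp
        (NumBdd.bijective_mulS (F := B) hA s hx)).2 z
      refine ⟨stalkLin (biprod.inr : B ⟶ A ⊞ B) x w, ?_⟩
      rw [← LinearMap.comp_apply, ← stalkLin_comp, biprod.inr_desc, stalkLin_comp]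
      exact hw
    · obtain ⟨w, hw⟩ := (NumBdd.bijective_mulS (F := A) hB t (ht hx)).2 z
      refine ⟨stalkLin (biprod.inl : A ⟶ A ⊞ B) x w, ?_⟩
      rw [← LinearMap.comp_apply, ← stalkLin_comp, biprod.inl_desc]
      exact hw
  have hAB : PicF.IsInvertible (CohB1.tensorMod A B) := AmpleLib.isInvertible_tensor hA hB
  have hs2 := DCohLib.isFinLocFree_biprod (flf_of_inv hA) (flf_of_inv hB)
  have hr2 : FlatMod.IsFinLocFreeOfRank 2 (A ⊞ B) := (KVb.isFinLocFreeOfRank_iff hs2 2).2 fun x => by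
    rw [KVb.fibreRank_biprod (flf_of_inv hA) (flf_of_inv hB),
      (KVb.isFinLocFreeOfRank_iff (flf_of_inv hA) 1).1 (CurveLib.isFinLocFreeOfRank_one hA) x,
      (KVb.isFinLocFreeOfRank_iff (flf_of_inv hB) 1).1 (CurveLib.isFinLocFreeOfRank_one hB) x]
  have hTc := isCoh_of_rank (CurveLib.isFinLocFreeOfRank_one hAB)
  have hKc := (QCohLib.isCoh_kernel_cokernel g (isCoh_of_rank hr2) hTc).1
  let S := ShortComplex.mk (kernel.ι g) g (kernel.condition g)
  have hS : S.ShortExact :=
    { exact := ShortComplex.exact_of_f_is_kernel _ (kernelIsKernel g)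
      mono_f := inferInstanceAs (Mono (kernel.ι g))
      epi_g := ‹Epi g› }
  have hg := grk_add hS hKc hTc
  have hKr := rank_of_mono (kernel.ι g) hKc hr2
  change grk (A ⊞ B) = grk (kernel g) + grk (CohB1.tensorMod A B) at hg
  rw [grk_of_rank hr2, grk_of_rank (CurveLib.isFinLocFreeOfRank_one hAB)] at hg
  rw [show grk (kernel g) = 1 by omega] at hKr
  have hKi := VBLib.isInvertible_of_rank hKr
  have hcl : (c A + c B : SGA6.Kvb X) = c (kernel g) + c (CohB1.tensorMod A B) :=
    (KVb.cl_biprod (flf_of_inv hA) (flf_of_inv hB)).symm.trans (KVb.cl_add hS (flf_of_inv hKi) hs2 (flf_of_inv hAB))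
  have hdet := congrArg detHom hcl
  rw [map_add, map_add, detHom_invertible hA, detHom_invertible hB, detHom_invertible hKi, detHom_invertible hAB,
    ← ofMul_mul, ← ofMul_mul] at hdet
  have hm : PicGrp.cls A hA * PicGrp.cls B hB = PicGrp.cls _ hAB := Subtype.ext (PicGrp.cls_mul_cls_val hA hB)
  have hd : PicGrp.cls A hA * PicGrp.cls B hB = PicGrp.cls (kernel g) hKi * PicGrp.cls _ hAB :=
    Additive.ofMul.injective hdet
  rw [hm] at hd
  obtain ⟨e⟩ := (PicGrp.cls_eq_one_iff hKi).1 (mul_eq_right.1 hd.symm)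
  rw [hcl, KVb.cl_iso e]

include k hdim in
theorem exists_gg_twist {A B : X.Modules} (hA : PicF.IsInvertible A) (hB : PicF.IsInvertible B) :
    ∃ N : X.Modules, PicF.IsInvertible N ∧ Curv2.IsGloballyGenerated N ∧
      Curv2.IsGloballyGenerated (CohB1.tensorMod A N) ∧ Curv2.IsGloballyGenerated (CohB1.tensorMod B N) ∧
      Curv2.IsGloballyGenerated (CohB1.tensorMod (CohB1.tensorMod A B) N) := by
  haveI : IsNoetherian X := EulerIneqLib.isNoetherian_proper (X := X) k
  haveI := isRegCurve_of_smooth k (X := X) hdim.le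
  let a := Curv2.deg k X A 1
  let b := Curv2.deg k X B 1
  obtain ⟨N, hN, hdN⟩ := RankTwo.exists_deg k hdim (2 * (Curv2.genus k X : ℤ) + |a| + |b|)
  have key : ∀ L : X.Modules, PicF.IsInvertible L → 2 * (Curv2.genus k X : ℤ) ≤ Curv2.deg k X L 1 →
      Curv2.IsGloballyGenerated L := fun L hL h =>
    S1533.result k X hdim CurveLib.finrank_H0_structure L hL h
  have hAB : PicF.IsInvertible (CohB1.tensorMod A B) := AmpleLib.isInvertible_tensor hA hB
  refine ⟨N, hN, key N hN ?_, key _ (AmpleLib.isInvertible_tensor hA hN) ?_, key _ (AmpleLib.isInvertible_tensor hB hN) ?_,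
    key _ (AmpleLib.isInvertible_tensor hAB hN) ?_⟩
  · rw [hdN]; linarith [abs_nonneg a, abs_nonneg b]
  · rw [CurveLib.deg_tensor_add (k := k) hdim.le hA hN, hdN]; linarith [neg_abs_le a, abs_nonneg b]
  · rw [CurveLib.deg_tensor_add (k := k) hdim.le hB hN, hdN]; linarith [neg_abs_le b, abs_nonneg a]
  · rw [CurveLib.deg_tensor_add (k := k) hdim.le hAB hN, CurveLib.deg_tensor_add (k := k) hdim.le hA hB, hdN]
    linarith [neg_abs_le a, neg_abs_le b]

include k hdim in
/-- The class of an invertible module is affine in the group law of the Picard group. -/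
theorem cl_add_cl {A B : X.Modules} (hA : PicF.IsInvertible A) (hB : PicF.IsInvertible B) :
    (c A + c B : SGA6.Kvb X) = c O + c (CohB1.tensorMod A B) := by
  obtain ⟨N, hN, gN, gA, gB, gAB⟩ := exists_gg_twist k hdim hA hB
  have hAB : PicF.IsInvertible (CohB1.tensorMod A B) := AmpleLib.isInvertible_tensor hA hB
  have hAN := AmpleLib.isInvertible_tensor hA hN
  have hBN := AmpleLib.isInvertible_tensor hB hN
  have hABN := AmpleLib.isInvertible_tensor hAB hN
  have h1 := cl_add_cl_of_gg k hdim hAN hBN gA gB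
  have h2 := cl_add_cl_of_gg k hdim hABN hN gAB gN
  have e : CohB1.tensorMod (CohB1.tensorMod A N) (CohB1.tensorMod B N) ≅
      CohB1.tensorMod (CohB1.tensorMod (CohB1.tensorMod A B) N) N :=
    AmpleLib.assoc _ _ _ ≪≫ AmpleLib.tIso (Iso.refl A) (AmpleLib.comm N _ ≪≫ AmpleLib.assoc _ _ _) ≪≫
      (AmpleLib.assoc _ _ _).symm ≪≫ (AmpleLib.assoc _ _ _).symm
  rw [KVb.cl_iso e, ← h2] at h1
  obtain ⟨N', hN', ⟨ν⟩⟩ := AmpleEmb.exists_isInverseOf hN
  have hT : ∀ L : X.Modules, PicF.IsInvertible L →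
      KVb.tenHom N' (KRR.cl X (CohB1.tensorMod L N)) = KRR.cl X L := fun L hL => by
    rw [KVb.tenHom_cl (flf_of_inv (AmpleLib.isInvertible_tensor hL hN)) (flf_of_inv hN')]
    exact KVb.cl_iso (AmpleLib.assoc _ _ _ ≪≫ AmpleLib.tIso (Iso.refl L) ν ≪≫ AmpleLib.unitR L)
  have hTN : KVb.tenHom N' (KRR.cl X N) = KRR.cl X O := by
    rw [KVb.tenHom_cl (flf_of_inv hN) (flf_of_inv hN')]
    exact KVb.cl_iso ν
  have h3 := congrArg (KVb.tenHom N') h1
  rw [map_add, map_add, hT A hA, hT B hB, hT _ hAB, hTN] at h3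
  rw [h3, add_comm]

include k hdim in
/-- A bundle of positive rank has a quotient line bundle with a bundle as kernel. -/
theorem exists_quotient_line {r : ℕ} {E : X.Modules} (hE : FlatMod.IsFinLocFreeOfRank (r + 1) E) :
    ∃ S : ShortComplex X.Modules, S.ShortExact ∧ S.X₂ = E ∧ FlatMod.IsFinLocFreeOfRank r S.X₁ ∧
      PicF.IsInvertible S.X₃ := by
  haveI : IsNoetherian X := EulerIneqLib.isNoetherian_proper (X := X) k
  haveI := isRegCurve_of_smooth k (X := X) hdim.le
  let C : ℤ := |Curv2.deg k X E (r + 1)| + ((r + 1 : ℕ) : ℤ) + 1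
  obtain ⟨N, hN, hdN⟩ := RankTwo.exists_deg k hdim (-C)
  have hEN : FlatMod.IsFinLocFreeOfRank (r + 1) (CohB1.tensorMod E N) := isFinLocFreeOfRank_twist hE hN
  have hne : ¬ Subsingleton (Coh.HH X (CohB1.tensorMod E N) 1) := fun h => by
    have hd := CurveLib.deg_tensor_invertible (k := k) hdim.le hE hN
    rw [hdN] at hd
    rw [Curv2.deg, CurveLib.euler_eq_sub (k := k) hdim.le, CurveLib.euler_eq_sub (k := k) hdim.le,
      CurveLib.finrank_H0_structure] at hd
    haveI : Subsingleton (Coh.HH X (DCohLib.tmod E N) 1) := h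
    rw [Module.finrank_zero_of_subsingleton (M := Coh.HH X (DCohLib.tmod E N) 1)] at hd
    have h0 := Int.natCast_nonneg (Module.finrank k (Coh.HH X (DCohLib.tmod E N) 0))
    have hg := Int.natCast_nonneg (Module.finrank k (Coh.HH X (Coh.structureModule X) 1))
    have hr : (1 : ℤ) ≤ ((r + 1 : ℕ) : ℤ) := by omega
    have hC : 0 ≤ C := by positivity
    have := mul_le_mul_of_nonneg_right hr hC
    have := mul_nonneg (Int.natCast_nonneg (r + 1)) hg
    simp only [C] at *
    push_cast at *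
    linarith [le_abs_self (Curv2.deg k X E (r + 1))]
  have h00 := CurveLib.finrank_H0_structure (k := k) (X := X)
  obtain ⟨φ, hφ⟩ := SDual.exists_hom_ne_zero k hdim h00 hEN hne
  have hω := CurveFF.omega_invertible_of_smooth (X := X) k hdim h00
  obtain ⟨N', hN', ⟨ν⟩⟩ := AmpleEmb.exists_isInverseOf hN
  let R := (DCoh.tensorBi (X := X)).obj N'
  let η : E ≅ R.obj (CohB1.tensorMod E N) :=
    (AmpleLib.comm N' (CohB1.tensorMod E N) ≪≫ (AmpleLib.assoc E N N') ≪≫ AmpleLib.tIso (Iso.refl E) ν ≪≫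
      AmpleLib.unitR E).symm
  let L := CohB1.tensorMod N' (CurveFF.om k X)
  have hL : PicF.IsInvertible L := AmpleLib.isInvertible_tensor hN' hω
  let ψ : E ⟶ L := η.hom ≫ R.map φ
  have hψ : ψ ≠ 0 := fun h => hφ (map_eq_zero hN' (g := φ) (by rw [← cancel_epi η.hom, comp_zero]; exact h))
  obtain ⟨I, p, i, hi, hp, hpi, hIc, hKc, hr, -⟩ :=
    exists_image k ψ (isCoh_of_rank hE) (isCoh_of_rank (CurveLib.isFinLocFreeOfRank_one hL))
  haveI := hi
  have hI0 : grk I ≠ 0 := fun hz => hψ (by
    rw [← hpi, (isZero_of_mono i hIc (CurveLib.isFinLocFreeOfRank_one hL) hz).eq_of_tgt p 0, zero_comp])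
  obtain ⟨-, hIle, -⟩ := coker_add k i hIc (isCoh_of_rank (CurveLib.isFinLocFreeOfRank_one hL))
  rw [grk_of_rank (CurveLib.isFinLocFreeOfRank_one hL)] at hIle
  have hI1 : grk I = 1 := by omega
  have hIr := rank_of_mono i hIc (CurveLib.isFinLocFreeOfRank_one hL)
  rw [hI1] at hIr
  haveI := hp
  have hS : (ShortComplex.mk (kernel.ι p) p (kernel.condition p)).ShortExact :=
    { exact := ShortComplex.exact_of_f_is_kernel _ (kernelIsKernel p)
      mono_f := inferInstanceAs (Mono (kernel.ι p))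
      epi_g := hp }
  have hKp := (QCohLib.isCoh_kernel_cokernel p (isCoh_of_rank hE) hIc).1
  have hg := grk_add hS hKp hIc
  have hKr := rank_of_mono (kernel.ι p) hKp hE
  change grk E = grk (kernel p) + grk I at hg
  rw [grk_of_rank hE, hI1] at hg
  rw [show grk (kernel p) = r by omega] at hKr
  exact ⟨_, hS, rfl, hKr, VBLib.isInvertible_of_rank hIr⟩

include k hdim in
theorem exists_cl_eq : ∀ (r : ℕ) {E : X.Modules}, FlatMod.IsFinLocFreeOfRank r E →
    ∃ L : X.Modules, PicF.IsInvertible L ∧ (c E : SGA6.Kvb X) = ((r : ℤ) - 1) • KRR.cl X O + c L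
  | 0, E, hE => by
    refine ⟨O, ParaFLib.isInvertible_structureModule, ?_⟩
    have hz : IsZero E := KVb.isZero_of_rank_zero (KVb.isFinLocFree_of_rank hE)
      ((KVb.isFinLocFreeOfRank_iff (KVb.isFinLocFree_of_rank hE) 0).1 hE)
    rw [KVb.cl_of_isZero hz]
    simp
  | r + 1, E, hE => by
    obtain ⟨S, hS, rfl, h1, h3⟩ := exists_quotient_line k hdim hE
    obtain ⟨L, hL, e⟩ := exists_cl_eq r h1
    refine ⟨_, AmpleLib.isInvertible_tensor hL h3, ?_⟩
    rw [KVb.cl_add hS (KVb.isFinLocFree_of_rank h1) (KVb.isFinLocFree_of_rank hE) (flf_of_inv h3), e, add_assoc,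
      cl_add_cl k hdim hL h3]
    push_cast
    rw [add_sub_cancel_right, ← add_assoc]
    congr 1
    rw [sub_smul, one_smul, sub_add_cancel]

end Curve

end Groth.Agent.KVbCurveLib
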